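import Cfsg.Agent.SYM.Y1
import Cfsg.Agent.SYM.Rank2
import Cfsg.Agent.H23.Basic

/-! Width one: `Q = Q₈ ∘ Z₄` forces 2-rank two. -/

set_option autoImplicit false
set_option linter.unusedSectionVars false

namespace Cfsg.Agent.SYM

open Subgroup H4.GF DW
open H42 (SylIn)
open scoped Pointwise

universe w

variable {G : Type w} [Group G] [Finite G] {z u t v : G}

theorem Hyp.card_U (h : Hyp z u) : Nat.card (zpowers u) = 4 := by
  rw [Nat.card_zpowers, orderOf_eq_prime_pow (p := 2) (n := 1)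
    (by rw [pow_one, pow_two, h.uu]; exact h.z1) (by
      rw [show 2 ^ (1 + 1) = 2 * 2 from rfl, pow_mul, pow_two u, h.uu, pow_two, h.zz])]
  rfl

theorem In.one [IsSimpleGroup G] (hG : ¬ IsMulCommutative G) (p : In z u t v)
    (h : Nat.card (QQ z) ≤ 16) : Concl G := by
  have hy := p.hyp
  have hy' := p.toPr.hyp'
  have tu : t * u = u * t := (p.big.all t p.tQ).2.1
  have uv := p.toPr.uv_of tu
  obtain ⟨sol, hb⟩ := hy.small ((card_le_of_le fun a ha => (hy.mem_Q1.1 ha).1).trans h)
  have cm : ∀ a ∈ zpowers u, ∀ b ∈ zpowers v, a * b = b * a := by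
    rintro _ ⟨i, rfl⟩ _ ⟨j, rfl⟩
    exact (Commute.zpow_zpow uv i j).eq
  have hn : zpowers u ≤ normalizer (zpowers v : Set G) := fun a ha =>
    centralizer_le_normalizer _ fun b hb => (cm a ha b hb).symm
  have hi : zpowers u ⊓ zpowers v = ⊥ := eq_bot_iff.2 fun a ha => by
    have tU := p.toPr.t_not_U
    rcases hy'.mem_U.1 ha.2 with e | e | e | e
    · exact e
    · exact absurd (e ▸ ha.1) tU
    · exact absurd (by rw [← p.vv, ← e]; exact mul_mem ha.1 ha.1) tU
    · refine absurd ?_ tU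
      have := (zpowers u).inv_mem ((zpowers u).mul_mem ha.1 ha.1)
      rwa [e, ← hy'.u_inv, ← mul_inv_rev, inv_inv, p.vv] at this
  set M := zpowers u ⊔ zpowers v with hM
  have cM : Nat.card M = 16 := by
    have := H23.card_sup_mul_card_inf hn
    rwa [hi, card_bot, mul_one, hy.card_U, hy'.card_U] at this
  have Mz : M ≤ centralizer {z} := sup_le (zpowers_le.2 (mem_centralizer_singleton_iff.2 hy.uz))
    (zpowers_le.2 (mem_centralizer_singleton_iff.2 p.vz))
  have Mt : M ≤ centralizer {t} :=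
    sup_le (zpowers_le.2 (mem_centralizer_singleton_iff.2 tu.symm))
      (zpowers_le.2 (mem_centralizer_singleton_iff.2 hy'.uz))
  obtain ⟨S, hS, MS, QS, Sz⟩ := hy.exists_sylow (P := M) (IsPGroup.of_card (n := 4) cM)
    fun a ha => mem_centralizer_singleton_iff.1 (Mz ha)
  obtain ⟨Γ, V, _, _, _, _, ⟨X⟩⟩ := hy.exists_br
  obtain ⟨y, y1, -, yt⟩ := X.exists_conj (p.big.all t p.tQ) p.toPr.t_not_U
  have yC : y ∉ centralizer {t} := fun e => hy.z1 (by
    rw [mem_centralizer_singleton_iff.1 e, mul_inv_cancel_right] at yt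
    exact right_eq_mul.1 yt)
  have cS := hb S hS.isP QS Sz
  have idx : ∀ N : Subgroup G, M ≤ N → N ≤ S → N ≤ centralizer {t} →
      N.relIndex S = 2 ∧ Nat.card N ≤ 16 := fun N h1 h2 h3 => by
    have e1 := (N.subgroupOf S).card_mul_index
    rw [Nat.card_congr (subgroupOfEquivOfLe h2).toEquiv] at e1
    have e2 := cM ▸ card_le_of_le h1
    have e3 : N.relIndex S ≠ 1 := fun e => yC (h3 (relIndex_eq_one.1 e (QS y1.1)))
    have e4 : N.relIndex S ≠ 0 := FiniteIndex.index_ne_zero
    change Nat.card N * N.relIndex S = _ at e1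
    constructor
    · by_contra e5
      have := Nat.mul_le_mul e2 (show 3 ≤ N.relIndex S by omega)
      omega
    · have := Nat.mul_le_mul_left (Nat.card N) (show 2 ≤ N.relIndex S by omega)
      omega
  have CM : S ⊓ centralizer {t} = M := (eq_of_le_of_card_ge (le_inf MS Mt)
    (cM ▸ (idx _ (le_inf MS Mt) inf_le_left inf_le_right).2)).symm
  have inv : ∀ m ∈ M, m * m = 1 → m = 1 ∨ m = z ∨ m = t ∨ m = z * t := fun m hm e => by
    have h1 : m ∈ (zpowers u : Set G) * (zpowers v : Set G) := by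
      rw [← coe_mul_of_left_le_normalizer_right _ _ hn]; exact hm
    obtain ⟨a, ha, b, hb, rfl⟩ := h1
    have e1 : a * a * (b * b) = 1 := by
      rw [← e, mul_assoc, mul_assoc, ← mul_assoc a b, cm a ha b hb, mul_assoc]
    have e2 : a * a = 1 := mem_bot.1 (hi ▸ ⟨mul_mem ha ha, by
      rw [eq_inv_of_mul_eq_one_left e1]; exact (zpowers v).inv_mem ((zpowers v).mul_mem hb hb)⟩)
    rw [e2, one_mul] at e1
    rcases hy.U_inv ha e2 with f | f <;> rcases hy'.U_inv hb e1 with f' | f' <;> simp [f, f']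
  have i2 := (idx M le_rfl MS Mt).1
  refine hy.rank2 hG hS Sz MS i2 (fun m hm e => ?_) (fun A AS hA => ?_) sol
  · rcases inv m hm e with rfl | rfl | rfl | rfl
    · exact Or.inl rfl
    · exact Or.inr (IsConj.refl _)
    · exact Or.inr p.toPr.isConj
    · exact Or.inr (p.toPr.isConj.trans (isConj_iff.2 ⟨y, yt⟩))
  classical
  have ac : ∀ a ∈ A, ∀ b ∈ A, a * b = b * a := fun a ha b hb => by
    rw [← inv_eq_of_mul_eq_one_right (hA _ (mul_mem ha hb)), mul_inv_rev,
      inv_eq_of_mul_eq_one_right (hA a ha), inv_eq_of_mul_eq_one_right (hA b hb)]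
  by_cases AM : A ≤ M
  · refine (Set.ncard_le_ncard (t := ↑({1, z, t, z * t} : Finset G)) fun a ha => ?_).trans
      (by rw [Set.ncard_coe_finset]; exact Finset.card_le_four)
    simpa using inv a (AM ha) (hA a ha)
  have c1 : Nat.card (M ⊓ A : Subgroup G) ≤ 2 := by
    refine (Set.ncard_le_ncard (t := ↑({1, z} : Finset G)) fun a ha => ?_).trans
      (by rw [Set.ncard_coe_finset]; exact Finset.card_le_two)
    rcases inv a ha.1 (hA a ha.2) with e | e | e | e
    · simp [e]
    · simp [e]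
    · exact absurd (fun b hb => CM.le ⟨AS hb, mem_centralizer_singleton_iff.2
        (ac b hb t (e ▸ ha.2))⟩) AM
    · refine absurd (fun b hb => CM.le ⟨AS hb, mem_centralizer_singleton_iff.2 ?_⟩) AM
      have := ac b hb _ (e ▸ ha.2)
      rw [← mul_assoc, Sz b (AS hb), mul_assoc, mul_assoc] at this
      exact mul_left_cancel this
  have e1 := ((M ⊓ A).subgroupOf A).card_mul_index
  rw [Nat.card_congr (subgroupOfEquivOfLe inf_le_right).toEquiv] at e1
  change _ * (M ⊓ A).relIndex A = _ at e1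
  rw [inf_relIndex_right] at e1
  have := Nat.mul_le_mul c1 (i2 ▸ relIndex_le_of_le_right AS FiniteIndex.index_ne_zero :
    M.relIndex A ≤ 2)
  omega

end Cfsg.Agent.SYM
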